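import Groth.Agent.L15.Tame.Compat
import Groth.Agent.L03.LengthSum
import Mathlib.RingTheory.IsTensorProduct
import Mathlib.RingTheory.Flat.Stability
import Mathlib.RingTheory.TensorProduct.Quotient

/-!
Local lengths and determinants along a flat base change of one-dimensional local rings.
-/

set_option autoImplicit false
universe u

noncomputable section

namespace Groth.L15.TameFlat

open IsLocalRing TensorProduct Groth.L03.LengthSum Groth.L15.Tame

local notation "Loc" q => Localization.AtPrime (MaximalSpectrum.asIdeal q)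

section Additive

variable {B : Type u} [CommRing B]

theorem lloc_exact (Q : MaximalSpectrum B) {M N P : Type u} [AddCommGroup M] [AddCommGroup N]
    [AddCommGroup P] [Module B M] [Module B N] [Module B P] (f : M →ₗ[B] N) (g : N →ₗ[B] P)
    (hf : Function.Injective f) (hg : Function.Surjective g) (h : Function.Exact f g) :
    lloc Q N = lloc Q M + lloc Q P :=
  Module.length_eq_add_of_exact (LocalizedModule.map Q.asIdeal.primeCompl f)
    (LocalizedModule.map Q.asIdeal.primeCompl g) (LocalizedModule.map_injective _ _ hf)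
    (LocalizedModule.map_surjective _ _ hg) (LocalizedModule.map_exact _ _ _ h)

/-- `0 → B/(I : x) → B/I → B/(I + x) → 0` -/
theorem exists_colon_exact (I I₁ I₂ : Ideal B) (x : B) (h₁ : ∀ y, y ∈ I₁ ↔ y * x ∈ I)
    (h₂ : I₂ = I ⊔ Ideal.span {x}) :
    ∃ (f : (B ⧸ I₁) →ₗ[B] (B ⧸ I)) (g : (B ⧸ I) →ₗ[B] (B ⧸ I₂)),
      Function.Injective f ∧ Function.Surjective g ∧ Function.Exact f g := by
  let f₀ : B →ₗ[B] B ⧸ I := (Submodule.mkQ I).comp (LinearMap.mulRight B x)
  have hker : I₁ = LinearMap.ker f₀ := by
    ext y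
    rw [h₁, LinearMap.mem_ker]
    exact (Ideal.Quotient.eq_zero_iff_mem).symm
  have hle : I ≤ I₂ := h₂ ▸ le_sup_left
  refine ⟨Submodule.liftQ I₁ f₀ hker.le, Submodule.factor hle, ?_, ?_, ?_⟩
  · rw [← LinearMap.ker_eq_bot, Submodule.ker_liftQ, hker, Submodule.mkQ_map_self]
  · exact Submodule.factor_surjective hle
  · intro y
    obtain ⟨y, rfl⟩ := Submodule.Quotient.mk_surjective I y
    constructor
    · intro hy
      have hy' : y ∈ I ⊔ Ideal.span {x} := by
        rw [← h₂]; exact (Submodule.Quotient.mk_eq_zero I₂).mp hy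
      obtain ⟨i, hi, j, hj, rfl⟩ := Submodule.mem_sup.mp hy'
      obtain ⟨c, rfl⟩ := Ideal.mem_span_singleton'.mp hj
      refine ⟨Submodule.Quotient.mk c, ?_⟩
      show Submodule.Quotient.mk (c * x) = _
      rw [Submodule.Quotient.eq]
      simpa using hi
    · rintro ⟨c, hc⟩
      obtain ⟨c, rfl⟩ := Submodule.Quotient.mk_surjective I₁ c
      rw [← hc]
      show Submodule.Quotient.mk (c * x) = (0 : B ⧸ I₂)
      rw [Submodule.Quotient.mk_eq_zero, h₂]
      exact Ideal.mem_sup_right (Ideal.mul_mem_left _ _ (Ideal.mem_span_singleton_self x))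

variable {B' : Type u} [CommRing B'] [Algebra B B'] [Module.Flat B B']

/-- local lengths of a flat base change of a module supported at one maximal ideal -/
theorem lloc_baseChange (Q : MaximalSpectrum B') (q : MaximalSpectrum B) :
    ∀ (P : Type u) [AddCommGroup P] [Module B P], IsFiniteLength B P →
      (∀ q₀, q₀ ≠ q → lloc q₀ P = 0) →
      lloc Q (B' ⊗[B] P) = lloc q P * lloc Q (B' ⧸ q.asIdeal.map (algebraMap B B')) := by
  intro P _ _ hP
  induction hP with
  | @of_subsingleton P _ _ hsub =>
    intro _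
    have : Subsingleton (B' ⊗[B] P) := ⟨fun a b => by
      have : ∀ z : B' ⊗[B] P, z = 0 := fun z => by
        induction z with
        | zero => rfl
        | tmul x y => rw [Subsingleton.elim y 0, tmul_zero]
        | add x y hx hy => rw [hx, hy, add_zero]
      rw [this a, this b]⟩
    rw [lloc_subsingleton, lloc_subsingleton, zero_mul]
  | @of_simple_quotient M _ _ N hs hN ih =>
    intro hM
    obtain ⟨I, hI, ⟨e⟩⟩ := isSimpleModule_iff_quot_maximal.1 hs
    have h1 : ∀ m, lloc m M = lloc m N + lloc m (B ⧸ I) := fun m =>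
      (lloc_add m N).trans (congrArg _ (lloc_congr m e))
    obtain rfl : I = q.asIdeal := by
      by_contra hne
      have h2 := hM ⟨I, hI⟩ (fun h => hne (congrArg MaximalSpectrum.asIdeal h))
      rw [h1, lloc_quot_self ⟨I, hI⟩] at h2
      simp at h2
    have h3 : lloc Q (B' ⊗[B] M) = lloc Q (B' ⊗[B] N) + lloc Q (B' ⊗[B] (B ⧸ q.asIdeal)) :=
      lloc_exact Q (AlgebraTensorModule.lTensor B' B' N.subtype)
        (AlgebraTensorModule.lTensor B' B' (e.toLinearMap ∘ₗ N.mkQ))
        (Module.Flat.lTensor_preserves_injective_linearMap N.subtype N.subtype_injective)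
        (LinearMap.lTensor_surjective B' (e.surjective.comp N.mkQ_surjective))
        (lTensor_exact B' (by
          intro y
          simp [Submodule.Quotient.mk_eq_zero]) (e.surjective.comp N.mkQ_surjective))
    rw [h3, h1 q, lloc_quot_self q, add_mul, one_mul]
    congr 1
    · refine ih fun q₀ hq₀ => ?_
      have := hM q₀ hq₀
      rw [h1] at this
      exact (add_eq_zero.mp this).1
    · exact lloc_congr Q
        (Algebra.TensorProduct.quotIdealMapEquivTensorQuot B' q.asIdeal).toLinearEquiv.symm

/-- the order of the image of an element lying in one maximal ideal only -/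
theorem ord_map (Q : MaximalSpectrum B') (q : MaximalSpectrum B) {x : B}
    (hfin : IsFiniteLength B (B ⧸ Ideal.span {x}))
    (hx : ∀ q₀ : MaximalSpectrum B, q₀ ≠ q → x ∉ q₀.asIdeal) :
    Ring.ord (Loc Q) (algebraMap B' (Loc Q) (algebraMap B B' x)) =
      Ring.ord (Loc q) (algebraMap B (Loc q) x) * lloc Q (B' ⧸ q.asIdeal.map (algebraMap B B')) := by
  have key : ∀ {C : Type u} [CommRing C] (m : MaximalSpectrum C) (y : C),
      lloc m (C ⧸ Ideal.span {y}) = Ring.ord (Loc m) (algebraMap C (Loc m) y) := fun m y => by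
    rw [length_localized_quot, Ideal.map_span, Set.image_singleton]
    rfl
  have h0 : ∀ q₀, q₀ ≠ q → lloc q₀ (B ⧸ Ideal.span {x}) = 0 := fun q₀ h => by
    rw [key, ord_unit (isUnit_loc_of_notMem q₀ (hx q₀ h))]
  rw [← key, ← key, ← lloc_baseChange Q q _ hfin h0,
    ← lloc_congr Q (Algebra.TensorProduct.quotIdealMapEquivTensorQuot B' (Ideal.span {x})).toLinearEquiv,
    Ideal.map_span, Set.image_singleton]

end Additive

section Det

variable {A' B' : Type u} [CommRing A'] [IsLocalRing A'] [CommRing B'] [Algebra A' B'] [Module.Finite A' B']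

variable (A') in
/-- the norm of the residue of `b` at `Q` -/
def nQ (b : B') (Q : MaximalSpectrum B') : ResidueField A' :=
  haveI := isLocalHom_loc (A := A') Q
  Algebra.norm (ResidueField A') (residue (Loc Q) (algebraMap B' (Loc Q) b))

theorem det_eq_prod [Fintype (MaximalSpectrum B')] (b : B') :
    ∀ (M : Type u) [AddCommGroup M] [Module B' M], IsFiniteLength B' M →
      ∀ [Module A' M] [IsScalarTower A' B' M] [Module (ResidueField A') M]
        [IsScalarTower A' (ResidueField A') M] [Module.Finite (ResidueField A') M]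
        (f : M →ₗ[ResidueField A'] M), (∀ m, f m = b • m) →
      (∀ Q : MaximalSpectrum B', lloc Q M ≠ ⊤) ∧
        LinearMap.det f = ∏ Q : MaximalSpectrum B', nQ A' b Q ^ (lloc Q M).toNat := by
  intro M _ _ hM
  induction hM with
  | @of_subsingleton M _ _ hsub =>
    intro _ _ _ _ _ f _
    refine ⟨fun Q => by simp [lloc_subsingleton], ?_⟩
    rw [LinearMap.det_eq_one_of_subsingleton, Finset.prod_eq_one]
    intro Q _
    simp [lloc_subsingleton]
  | @of_simple_quotient M _ _ N hs hN ih =>
    intro _ _ _ _ _ f hf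
    classical
    obtain ⟨I, hI, ⟨e⟩⟩ := isSimpleModule_iff_quot_maximal.1 hs
    let Q₀ : MaximalSpectrum B' := ⟨I, hI⟩
    haveI := isLocalHom_loc (A := A') Q₀
    haveI := finite_res (A := A') Q₀
    let rQ : B' →ₗ[B'] ResidueField (Loc Q₀) := Algebra.linearMap B' _
    have hrQ : LinearMap.ker rQ = I := by
      ext z
      show residue (Loc Q₀) (algebraMap B' (Loc Q₀) z) = 0 ↔ _
      rw [residue_eq_zero_iff, IsLocalization.AtPrime.to_map_mem_maximal_iff (Loc Q₀) Q₀.asIdeal]
    let e₁ : (M ⧸ N) ≃ₗ[B'] ResidueField (Loc Q₀) :=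
      e.trans ((Submodule.quotEquivOfEq _ _ hrQ.symm).trans
        (rQ.quotKerEquivOfSurjective (residue_surjective' Q₀)))
    let g : M →ₗ[B'] ResidueField (Loc Q₀) := e₁.toLinearMap ∘ₗ N.mkQ
    have hg : Function.Surjective g := e₁.surjective.comp N.mkQ_surjective
    have hgker : ∀ m, g m = 0 ↔ m ∈ N := fun m => by simp [g, Submodule.Quotient.mk_eq_zero]
    have hsmul : ∀ (r : ResidueField A') (a : A') (m : M), residue A' a = r → r • m = algebraMap A' B' a • m :=
      fun r a m h => by
        subst h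
        rw [algebraMap_smul, ← algebraMap_smul (ResidueField A') a m]
        rfl
    let gK : M →ₗ[ResidueField A'] ResidueField (Loc Q₀) :=
      { toFun := g
        map_add' := map_add g
        map_smul' := fun r m => by
          obtain ⟨a, ha⟩ := residue_surjective r
          rw [hsmul r a m ha, map_smul, RingHom.id_apply, algebraMap_smul, ← ha]
          exact (algebraMap_smul (ResidueField A') a (g m)).symm }
    let W : Submodule (ResidueField A') M :=
      { N.toAddSubmonoid with
        smul_mem' := fun r m hm => by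
          obtain ⟨a, ha⟩ := residue_surjective r
          rw [hsmul r a m ha]
          exact N.smul_mem _ hm }
    have hWker : W = LinearMap.ker gK := by
      ext m
      exact (hgker m).symm
    letI : Module (ResidueField A') N := W.module
    haveI : IsScalarTower A' (ResidueField A') N :=
      IsScalarTower.of_algebraMap_smul fun a m => Subtype.ext (algebraMap_smul (ResidueField A') a (m : M))
    haveI : Module.Finite (ResidueField A') N := inferInstanceAs (Module.Finite (ResidueField A') W)
    have hW : W ≤ W.comap f := fun m hm => by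
      show f m ∈ W
      rw [hf]
      exact N.smul_mem _ hm
    obtain ⟨ihfin, ihdet⟩ := ih (f.restrict hW : N →ₗ[ResidueField A'] N)
      (fun m => Subtype.ext (hf m))
    have hl : ∀ Q, lloc Q M = lloc Q N + lloc Q (B' ⧸ I) := fun Q =>
      (lloc_add Q N).trans (congrArg _ (lloc_congr Q e))
    have hl' : ∀ Q, lloc Q (B' ⧸ I) = if Q = Q₀ then 1 else 0 := fun Q => by
      by_cases h : Q = Q₀
      · subst h; rw [if_pos rfl]; exact lloc_quot_self Q₀
      · rw [if_neg h]; exact lloc_quot_ne (m₀ := Q₀) h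
    refine ⟨fun Q => ?_, ?_⟩
    · rw [hl, hl']
      exact WithTop.add_ne_top.mpr ⟨ihfin Q, by
        split_ifs
        exacts [ENat.one_ne_top, ENat.zero_ne_top]⟩
    · let ψ : (M ⧸ W) ≃ₗ[ResidueField A'] ResidueField (Loc Q₀) :=
        (Submodule.quotEquivOfEq _ _ hWker).trans (gK.quotKerEquivOfSurjective hg)
      have hquot : LinearMap.det (W.mapQ W f hW) = nQ A' b Q₀ := by
        rw [← LinearMap.det_conj _ ψ, nQ, Algebra.norm_apply]
        congr 1
        refine LinearMap.ext fun z => ?_
        obtain ⟨y, rfl⟩ := ψ.surjective z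
        obtain ⟨m, rfl⟩ := Submodule.Quotient.mk_surjective W y
        simp only [LinearMap.coe_comp, Function.comp_apply, LinearEquiv.coe_coe,
          LinearEquiv.symm_apply_apply, Submodule.mapQ_apply]
        show g (f m) = residue (Loc Q₀) (algebraMap B' (Loc Q₀) b) * g m
        rw [hf, map_smul, Algebra.smul_def]
        rfl
      rw [LinearMap.det_eq_det_mul_det W f hW, hquot]
      refine (congrArg (· * _) ihdet).trans ?_
      have : nQ A' b Q₀ = ∏ Q : MaximalSpectrum B', nQ A' b Q ^ (lloc Q (B' ⧸ I)).toNat := by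
        rw [Finset.prod_eq_single Q₀ (fun Q _ h => by simp [hl', h]) (by simp)]
        simp [hl']
      rw [this, ← Finset.prod_mul_distrib]
      refine Finset.prod_congr rfl fun Q _ => ?_
      rw [hl, ENat.toNat_add (ihfin Q) (by rw [hl']; by_cases h : Q = Q₀ <;> simp [h]), pow_add]

end Det

section Coord

variable {A A' B B' : Type u} [CommRing A] [CommRing A'] [CommRing B] [CommRing B'] [IsLocalRing A]
  [Algebra A A'] [Algebra A B] [Algebra A B'] [Algebra A' B'] [Algebra B B']
  [IsScalarTower A A' B'] [IsScalarTower A B B'] [Algebra.IsPushout A A' B B']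
  (q : Ideal B) {n : ℕ} (b : Fin n → B) (φ : Fin n → B →ₗ[A] ResidueField A)

/-- coordinates modulo `q` -/
structure IsCoord : Prop where
  mem : ∀ a ∈ maximalIdeal A, algebraMap A B a ∈ q
  span : ∀ z : B, ∃ c : Fin n → A, z - ∑ i, c i • b i ∈ q
  vanish : ∀ i, ∀ z ∈ q, φ i z = 0
  dual : ∀ i j, φ i (b j) = if i = j then 1 else 0

variable {q b φ}

theorem span_base (h : IsCoord q b φ) (y : B') :
    ∃ a : Fin n → A', y - ∑ i, a i • algebraMap B B' (b i) ∈ q.map (algebraMap B B') := by
  induction y using (Algebra.IsPushout.out (R := A) (S := A') (R' := B) (S' := B')).inductionOn with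
  | zero => exact ⟨0, by simp⟩
  | tmul m =>
    obtain ⟨c, hc⟩ := h.span m
    refine ⟨fun i => algebraMap A A' (c i), ?_⟩
    have := Ideal.mem_map_of_mem (algebraMap B B') hc
    simp only [map_sub, map_sum] at this
    simp only [algebraMap_smul, IsScalarTower.coe_toAlgHom', AlgHom.toLinearMap_apply]
    refine (congrArg (· ∈ _) ?_).mp this
    congr 1
    refine Finset.sum_congr rfl fun i _ => ?_
    exact (map_smul (IsScalarTower.toAlgHom A B B') (c i) (b i))
  | smul s y ih =>
    obtain ⟨a, ha⟩ := ih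
    refine ⟨fun i => s * a i, ?_⟩
    simp only [mul_smul, ← Finset.smul_sum, ← smul_sub]
    exact Submodule.smul_of_tower_mem _ s ha
  | add y z hy hz =>
    obtain ⟨a, ha⟩ := hy
    obtain ⟨a', ha'⟩ := hz
    refine ⟨a + a', ?_⟩
    simp only [Pi.add_apply, add_smul, Finset.sum_add_distrib]
    rw [add_sub_add_comm]
    exact add_mem ha ha'

theorem sum_mem_iff (h : IsCoord q b φ) (J : Ideal A') (hJ : (maximalIdeal A).map (algebraMap A A') ≤ J)
    (a : Fin n → A') :
    ∑ i, a i • algebraMap B B' (b i) ∈ q.map (algebraMap B B') ⊔ J.map (algebraMap A' B') ↔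
      ∀ i, a i ∈ J := by
  classical
  constructor
  swap
  · intro ha
    refine Ideal.mem_sup_right (Ideal.sum_mem _ fun i _ => ?_)
    rw [Algebra.smul_def]
    exact Ideal.mul_mem_right _ _ (Ideal.mem_map_of_mem _ (ha i))
  intro hmem i
  have hbc : IsBaseChange A' (IsScalarTower.toAlgHom A B B').toLinearMap := Algebra.IsPushout.out
  let γ : ResidueField A →ₗ[A] A' ⧸ J :=
    Submodule.liftQ (maximalIdeal A) (Algebra.linearMap A (A' ⧸ J)) (fun z hz =>
      Ideal.Quotient.eq_zero_iff_mem.mpr (hJ (Ideal.mem_map_of_mem _ hz)))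
  let Φ : B' →ₗ[A'] A' ⧸ J := hbc.lift (γ ∘ₗ φ i)
  have hΦ : ∀ z : B, Φ (algebraMap B B' z) = γ (φ i z) := fun z => hbc.lift_eq _ z
  have hq : ∀ z ∈ q.map (algebraMap B B'), ∀ y, Φ (y * z) = 0 := by
    intro z hz
    induction hz using Submodule.span_induction with
    | mem z hz =>
      obtain ⟨z, hz, rfl⟩ := hz
      intro y
      induction y using hbc.inductionOn with
      | zero => simp
      | tmul m =>
        show Φ (algebraMap B B' m * algebraMap B B' z) = 0
        rw [← map_mul, hΦ, h.vanish i _ (q.mul_mem_left m hz), map_zero]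
      | smul s y ih => rw [smul_mul_assoc, map_smul, ih, smul_zero]
      | add y y' hy hy' => rw [add_mul, map_add, hy, hy', add_zero]
    | zero => simp
    | add z z' _ _ hz hz' => intro y; rw [mul_add, map_add, hz, hz', add_zero]
    | smul c z _ hz => intro y; rw [smul_eq_mul, ← mul_assoc]; exact hz _
  have hJ' : ∀ z ∈ J.map (algebraMap A' B'), ∀ y, Φ (y * z) = 0 := by
    intro z hz
    induction hz using Submodule.span_induction with
    | mem z hz =>
      obtain ⟨z, hz, rfl⟩ := hz
      intro y
      rw [mul_comm, ← Algebra.smul_def, map_smul]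
      obtain ⟨w, hw⟩ := Ideal.Quotient.mk_surjective (Φ y)
      rw [← hw]
      exact Ideal.Quotient.eq_zero_iff_mem.mpr (J.mul_mem_right w hz)
    | zero => simp
    | add z z' _ _ hz hz' => intro y; rw [mul_add, map_add, hz, hz', add_zero]
    | smul c z _ hz => intro y; rw [smul_eq_mul, ← mul_assoc]; exact hz _
  obtain ⟨z, hz, z', hz', hsum⟩ := Submodule.mem_sup.mp hmem
  have h0 : Φ (∑ j, a j • algebraMap B B' (b j)) = 0 := by
    rw [← hsum, map_add, ← one_mul z, ← one_mul z', hq z hz, hJ' z' hz', add_zero]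
  have hγ1 : γ 1 = 1 := (map_one (algebraMap A (A' ⧸ J)))
  rw [map_sum, Finset.sum_eq_single i (fun j _ hj => by rw [map_smul, hΦ, h.dual, if_neg hj.symm, map_zero, smul_zero])
    (by simp), map_smul, hΦ, h.dual, if_pos rfl, hγ1] at h0
  rw [← Ideal.Quotient.eq_zero_iff_mem, ← h0, Algebra.smul_def, mul_one]
  rfl

variable [IsLocalRing A']

/-- local lengths of the quotients are proportional to the length of the coefficient ring -/
theorem lloc_quot_eq_mul (h : IsCoord q b φ) [IsLocalHom (algebraMap A A')] (Q : MaximalSpectrum B')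
    (hfin : Module.length A' (A' ⧸ (maximalIdeal A).map (algebraMap A A')) ≠ ⊤) :
    lloc Q (B' ⧸ q.map (algebraMap B B')) =
      Module.length A' (A' ⧸ (maximalIdeal A).map (algebraMap A A')) *
        lloc Q (B' ⧸ (q.map (algebraMap B B') ⊔ (maximalIdeal A').map (algebraMap A' B'))) := by
  classical
  set m₀ := (maximalIdeal A).map (algebraMap A A')
  set T := lloc Q (B' ⧸ (q.map (algebraMap B B') ⊔ (maximalIdeal A').map (algebraMap A' B')))
  suffices H : ∀ (l : ℕ) (J : Ideal A'), m₀ ≤ J → Module.length A' (A' ⧸ J) = (l : ℕ∞) →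
      lloc Q (B' ⧸ (q.map (algebraMap B B') ⊔ J.map (algebraMap A' B'))) = (l : ℕ∞) * T by
    obtain ⟨l, hl⟩ := ENat.ne_top_iff_exists.mp hfin
    have h' := H l m₀ le_rfl hl.symm
    rw [← hl, ← h']
    refine lloc_congr Q (Submodule.quotEquivOfEq _ _ (sup_of_le_left ?_).symm)
    rw [Ideal.map_map, ← IsScalarTower.algebraMap_eq A A' B']
    rw [Ideal.map_le_iff_le_comap]
    intro z hz
    rw [Ideal.mem_comap, IsScalarTower.algebraMap_apply A B B']
    refine Ideal.mem_map_of_mem _ ?_
    exact h.mem z hz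
  intro l
  induction l using Nat.strong_induction_on with
  | _ l ih =>
  intro J hJ hlen
  by_cases htop : J = ⊤
  · subst htop
    have hl : l = 0 := by
      haveI : Subsingleton (A' ⧸ (⊤ : Ideal A')) := Ideal.Quotient.subsingleton_iff.mpr rfl
      rw [Module.length_eq_zero] at hlen
      exact_mod_cast hlen.symm
    haveI : Subsingleton (B' ⧸ (q.map (algebraMap B B') ⊔ (⊤ : Ideal A').map (algebraMap A' B'))) :=
      Ideal.Quotient.subsingleton_iff.mpr (by rw [Ideal.map_top, sup_top_eq])
    rw [hl, lloc_subsingleton]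
    simp
  by_cases hmax : J = maximalIdeal A'
  · subst hmax
    have hl : l = 1 := by
      haveI : IsSimpleModule A' (A' ⧸ maximalIdeal A') :=
        isSimpleModule_iff_quot_maximal.2 ⟨_, maximalIdeal.isMaximal A', ⟨LinearEquiv.refl _ _⟩⟩
      rw [Module.length_eq_one] at hlen
      exact_mod_cast hlen.symm
    rw [hl]; simp [T]
  obtain ⟨x, hxJ, hxm⟩ : ∃ x, x ∉ J ∧ ∀ y ∈ maximalIdeal A', y * x ∈ J := by
    have hfl : IsFiniteLength A' (A' ⧸ J) := Module.length_ne_top_iff.mp (by simp [hlen])
    haveI := (isFiniteLength_iff_isNoetherian_isArtinian.mp hfl).2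
    haveI : IsArtinianRing (A' ⧸ J) := isArtinian_of_tower A' this
    obtain ⟨N, hN⟩ := IsLocalRing.exists_maximalIdeal_pow_le_of_isArtinianRing_quotient J
    have hex : ∃ N, maximalIdeal A' ^ N ≤ J := ⟨N, hN⟩
    have h0 : Nat.find hex ≠ 0 := fun h0 => by
      have := Nat.find_spec hex
      rw [h0, pow_zero, Ideal.one_eq_top, top_le_iff] at this
      exact htop this
    obtain ⟨x, hx, hxJ⟩ := SetLike.not_le_iff_exists.mp
      (Nat.find_min hex (show Nat.find hex - 1 < Nat.find hex by omega))
    refine ⟨x, hxJ, fun y hy => Nat.find_spec hex ?_⟩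
    rw [show Nat.find hex = Nat.find hex - 1 + 1 by omega, pow_succ, mul_comm y x]
    exact Ideal.mul_mem_mul hx hy
  have hcolon : ∀ y, y ∈ maximalIdeal A' ↔ y * x ∈ J := fun y => by
    refine ⟨hxm y, fun hy => by_contra fun hu => hxJ ?_⟩
    obtain ⟨u, rfl⟩ := notMem_maximalIdeal.mp hu
    exact (Ideal.unit_mul_mem_iff_mem J u.isUnit).mp hy
  obtain ⟨f, g, hf, hg, hfg⟩ := exists_colon_exact J (maximalIdeal A') _ x hcolon rfl
  have hlenJ := Module.length_eq_add_of_exact f g hf hg hfg
  haveI : IsSimpleModule A' (A' ⧸ maximalIdeal A') :=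
    isSimpleModule_iff_quot_maximal.2 ⟨_, maximalIdeal.isMaximal A', ⟨LinearEquiv.refl _ _⟩⟩
  rw [hlen, Module.length_eq_one] at hlenJ
  obtain ⟨l', hl'⟩ : ∃ l' : ℕ, Module.length A' (A' ⧸ (J ⊔ Ideal.span {x})) = (l' : ℕ∞) := by
    refine (ENat.ne_top_iff_exists.mp fun htop' => ?_).imp fun _ => Eq.symm
    rw [htop'] at hlenJ
    simp at hlenJ
  rw [hl'] at hlenJ
  have hll : l = 1 + l' := by exact_mod_cast hlenJ
  have ih' := ih l' (by omega) (J ⊔ Ideal.span {x}) (hJ.trans le_sup_left) hl'
  have hJm : J ≤ maximalIdeal A' := le_maximalIdeal htop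
  have hcolon' : ∀ y : B', y ∈ q.map (algebraMap B B') ⊔ (maximalIdeal A').map (algebraMap A' B') ↔
      y * algebraMap A' B' x ∈ q.map (algebraMap B B') ⊔ J.map (algebraMap A' B') := by
    intro y
    obtain ⟨a, ha⟩ := span_base (A' := A') h y
    have hm : ∀ K : Ideal B', q.map (algebraMap B B') ≤ K →
        (y ∈ K ↔ ∑ i, a i • algebraMap B B' (b i) ∈ K) := fun K hK =>
      ⟨fun hy => by simpa using sub_mem hy (hK ha), fun hs => by simpa using add_mem (hK ha) hs⟩
    have hm' : y * algebraMap A' B' x ∈ q.map (algebraMap B B') ⊔ J.map (algebraMap A' B') ↔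
        ∑ i, (a i * x) • algebraMap B B' (b i) ∈ q.map (algebraMap B B') ⊔ J.map (algebraMap A' B') := by
      have h1 := Ideal.mul_mem_right (algebraMap A' B' x) _ ha
      have h2 : ∑ i, (a i * x) • algebraMap B B' (b i) =
          (∑ i, a i • algebraMap B B' (b i)) * algebraMap A' B' x := by
        rw [Finset.sum_mul]
        refine Finset.sum_congr rfl fun i _ => ?_
        rw [mul_comm (a i) x, mul_smul, Algebra.smul_def x, mul_comm]
      rw [h2]
      have h3 := Ideal.mem_sup_left (T := J.map (algebraMap A' B')) h1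
      rw [sub_mul] at h3
      exact ⟨fun hy => by simpa using sub_mem hy h3, fun hs => by simpa using add_mem h3 hs⟩
    have hmm : (maximalIdeal A).map (algebraMap A A') ≤ maximalIdeal A' :=
      Ideal.map_le_iff_le_comap.mpr fun z hz => map_nonunit (algebraMap A A') z hz
    rw [hm _ le_sup_left, sum_mem_iff h _ hmm, hm', sum_mem_iff h J hJ]
    exact forall_congr' fun i => hcolon (a i)
  obtain ⟨f', g', hf', hg', hfg'⟩ := exists_colon_exact (q.map (algebraMap B B') ⊔ J.map (algebraMap A' B'))
    _ (q.map (algebraMap B B') ⊔ (J ⊔ Ideal.span {x}).map (algebraMap A' B')) (algebraMap A' B' x) hcolon'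
    (by rw [Ideal.map_sup, Ideal.map_span, Set.image_singleton, sup_assoc])
  rw [lloc_exact Q f' g' hf' hg' hfg', ih', hll]
  push_cast
  rw [add_mul, one_mul]

end Coord

end Groth.L15.TameFlat
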