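import Groth.Agent.L15.TameFlat.Len
import Groth.Agent.L15.Tame.Main
import Mathlib.LinearAlgebra.FreeModule.PID
import Mathlib.RingTheory.Norm.Basic

/-!
The tame symbol under a flat local homomorphism of one-dimensional Noetherian local rings.
-/

set_option autoImplicit false
set_option maxSynthPendingDepth 5
universe u

noncomputable section

namespace Groth.L15.TameFlat

open IsLocalRing TensorProduct Groth.L03.LengthSum Groth.L15.Tame Groth.L15.CommonFactor CycAlg

local notation "Loc" q => Localization.AtPrime (MaximalSpectrum.asIdeal q)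

section Fibre

variable {A A' B B' : Type u} [CommRing A] [CommRing A'] [CommRing B] [CommRing B'] [IsLocalRing A]
  [IsLocalRing A'] [Algebra A A'] [IsLocalHom (algebraMap A A')]
  [Algebra A B] [Algebra A B'] [Algebra A' B'] [Algebra B B']
  [IsScalarTower A A' B'] [IsScalarTower A B B'] [Algebra.IsPushout A A' B B']
  [Module.Finite A B] [Module.Finite A' B'] [Fintype (MaximalSpectrum B')]

variable (A') in
/-- the reduced fibre ideal -/
def fibI (q : MaximalSpectrum B) : Ideal B' :=
  q.asIdeal.map (algebraMap B B') ⊔ (maximalIdeal A').map (algebraMap A' B')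

theorem lloc_fibI_ne (q : MaximalSpectrum B) (Q : MaximalSpectrum B') {z : B} (hz : z ∈ q.asIdeal)
    (hzQ : algebraMap B B' z ∉ Q.asIdeal) : lloc Q (B' ⧸ fibI A' q) = 0 := by
  haveI : Subsingleton (LocalizedModule Q.asIdeal.primeCompl (B' ⧸ fibI A' q)) := by
    rw [LocalizedModule.subsingleton_iff]
    intro y
    obtain ⟨y, rfl⟩ := Ideal.Quotient.mk_surjective y
    exact ⟨algebraMap B B' z, hzQ, Ideal.Quotient.eq_zero_iff_mem.mpr
      (Ideal.mul_mem_right y _ (Ideal.mem_sup_left (Ideal.mem_map_of_mem _ hz)))⟩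
  exact Module.length_eq_zero

theorem fibre_data (q : MaximalSpectrum B) [IsLocalHom (algebraMap A (Loc q))]
    (hfin : Module.length A' (A' ⧸ (maximalIdeal A).map (algebraMap A A')) ≠ ⊤) (c : B) :
    (∀ Q : MaximalSpectrum B', lloc Q (B' ⧸ q.asIdeal.map (algebraMap B B')) =
      Module.length A' (A' ⧸ (maximalIdeal A).map (algebraMap A A')) * lloc Q (B' ⧸ fibI A' q) ∧
      lloc Q (B' ⧸ fibI A' q) ≠ ⊤) ∧
    ∏ Q : MaximalSpectrum B', nQ A' (algebraMap B B' c) Q ^ (lloc Q (B' ⧸ fibI A' q)).toNat =
      ResidueField.map (algebraMap A A')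
        (Algebra.norm (ResidueField A) (residue (Loc q) (algebraMap B (Loc q) c))) := by
  classical
  haveI := finite_res (A := A) q
  let β := Module.finBasis (ResidueField A) (ResidueField (Loc q))
  set d := Module.finrank (ResidueField A) (ResidueField (Loc q))
  let r : B →ₐ[A] ResidueField (Loc q) := IsScalarTower.toAlgHom A B _
  have hr : ∀ z, r z = residue (Loc q) (algebraMap B (Loc q) z) := fun _ => rfl
  have hr0 : ∀ z, r z = 0 ↔ z ∈ q.asIdeal := fun z => by
    rw [hr, residue_eq_zero_iff, IsLocalization.AtPrime.to_map_mem_maximal_iff (Loc q) q.asIdeal]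
  choose b hb using fun i => residue_surjective' q (β i)
  have hsmul : ∀ (a : A) (x : ResidueField (Loc q)), a • x = residue A a • x :=
    fun a x => (algebraMap_smul (ResidueField A) a x).symm
  have hrsum : ∀ (co : Fin d → A), r (∑ i, co i • b i) = ∑ i, residue A (co i) • β i := fun co => by
    rw [map_sum]
    refine Finset.sum_congr rfl fun i _ => ?_
    rw [map_smul, hsmul]
    exact congrArg _ (hb i)
  let φ : Fin d → B →ₗ[A] ResidueField A := fun i => (β.coord i).restrictScalars A ∘ₗ r.toLinearMap
  have hco : IsCoord q.asIdeal b φ := by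
    refine ⟨fun a ha => ?_, fun z => ?_, fun i z hz => ?_, fun i j => ?_⟩
    · rw [← hr0, AlgHom.commutes, IsScalarTower.algebraMap_apply A (ResidueField A),
        show algebraMap A (ResidueField A) a = 0 from (residue_eq_zero_iff a).mpr ha, map_zero]
    · choose co hco using fun i => residue_surjective (β.repr (r z) i)
      refine ⟨co, (hr0 _).mp ?_⟩
      rw [map_sub, hrsum]
      simp only [hco, β.sum_repr, sub_self]
    · show β.coord i (r z) = 0
      rw [(hr0 z).mpr hz, map_zero]
    · show β.coord i (r (b j)) = _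
      rw [show r (b j) = β j from hb j, Module.Basis.coord_apply, β.repr_self, Finsupp.single_apply]
      simp only [eq_comm]
  have hm' : (maximalIdeal A).map (algebraMap A A') ≤ maximalIdeal A' :=
    Ideal.map_le_iff_le_comap.mpr fun z hz => map_nonunit (algebraMap A A') z hz
  let T := B' ⧸ fibI A' q
  letI : Algebra (ResidueField A') T :=
    (Ideal.Quotient.lift (maximalIdeal A') (algebraMap A' T) (fun a ha =>
      Ideal.Quotient.eq_zero_iff_mem.mpr (Ideal.mem_sup_right (Ideal.mem_map_of_mem _ ha)))).toAlgebra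
  haveI : IsScalarTower A' (ResidueField A') T := IsScalarTower.of_algebraMap_eq fun _ => rfl
  let v : Fin d → T := fun i => Ideal.Quotient.mk _ (algebraMap B B' (b i))
  have hv : ∀ a : Fin d → A', ∑ i, residue A' (a i) • v i =
      Ideal.Quotient.mk _ (∑ i, a i • algebraMap B B' (b i)) := fun a => by
    rw [map_sum]
    refine Finset.sum_congr rfl fun i _ => ?_
    rw [show residue A' (a i) = algebraMap A' (ResidueField A') (a i) from rfl, algebraMap_smul]
    simp only [v, Algebra.smul_def, map_mul, Ideal.Quotient.mk_algebraMap]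
    rfl
  have hli : LinearIndependent (ResidueField A') v := by
    rw [Fintype.linearIndependent_iff]
    intro g hg i
    choose a ha using fun i => residue_surjective (g i)
    rw [← Finset.sum_congr rfl (fun i _ => congrArg (· • v i) (ha i)), hv, Ideal.Quotient.eq_zero_iff_mem] at hg
    rw [← ha, residue_eq_zero_iff]
    exact (sum_mem_iff hco _ hm' a).mp hg i
  have hspan : ⊤ ≤ Submodule.span (ResidueField A') (Set.range v) := by
    intro y _
    obtain ⟨y, rfl⟩ := Ideal.Quotient.mk_surjective y
    obtain ⟨a, ha⟩ := span_base (A' := A') hco y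
    rw [show Ideal.Quotient.mk (fibI A' q) y = ∑ i, residue A' (a i) • v i from
      (Ideal.Quotient.eq.mpr (Ideal.mem_sup_left ha)).trans (hv a).symm]
    exact Submodule.sum_mem _ fun i _ => Submodule.smul_mem _ _ (Submodule.subset_span ⟨i, rfl⟩)
  let bas := Module.Basis.mk hli hspan
  haveI : Module.Finite (ResidueField A') T := Module.Finite.of_basis bas
  have hfl : IsFiniteLength B' T := by
    have h1 : IsFiniteLength A' T := by
      rw [← Module.length_ne_top_iff, Module.length_eq_of_surjective (R := ResidueField A') (S := A')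
        residue_surjective, Module.length_eq_finrank]
      exact ENat.natCast_ne_top _
    rw [isFiniteLength_iff_isNoetherian_isArtinian] at h1 ⊢
    exact h1.imp (fun h => isNoetherian_of_tower A' h) (fun h => isArtinian_of_tower A' h)
  obtain ⟨hne, hdet⟩ := det_eq_prod (algebraMap B B' c) T hfl
    (LinearMap.mulLeft (ResidueField A') (Ideal.Quotient.mk (fibI A' q) (algebraMap B B' c)))
    (fun m => by
      obtain ⟨m, rfl⟩ := Ideal.Quotient.mk_surjective m
      rfl)
  refine ⟨fun Q => ⟨lloc_quot_eq_mul hco Q hfin, hne Q⟩, ?_⟩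
  rw [← hdet, ← LinearMap.det_toMatrix bas, Algebra.norm_eq_matrix_det β, RingHom.map_det]
  congr 1
  ext i j
  choose M hM using fun i j => residue_surjective
    (Algebra.leftMulMatrix β (residue (Loc q) (algebraMap B (Loc q) c)) i j)
  have hj : c * b j - ∑ i, M i j • b i ∈ q.asIdeal := by
    rw [← hr0, map_sub, hrsum, map_mul, show r (b j) = β j from hb j, sub_eq_zero]
    simp only [hM]
    rw [← β.sum_repr (r c * β j)]
    refine Finset.sum_congr rfl fun i _ => ?_
    rw [Algebra.leftMulMatrix_eq_repr_mul, ← hr]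
  have hj' := Ideal.mem_sup_left (T := (maximalIdeal A').map (algebraMap A' B'))
    (Ideal.mem_map_of_mem (algebraMap B B') hj)
  rw [map_sub, map_mul, map_sum] at hj'
  have hT : Ideal.Quotient.mk (fibI A' q) (algebraMap B B' c) * v j =
      ∑ i, residue A' (algebraMap A A' (M i j)) • bas i := by
    simp only [bas, Module.Basis.mk_apply, hv, v]
    rw [← map_mul (Ideal.Quotient.mk (fibI A' q))]
    refine (Ideal.Quotient.eq.mpr hj').trans (congrArg _ (Finset.sum_congr rfl fun i _ => ?_))
    rw [algebraMap_smul]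
    exact map_smul (IsScalarTower.toAlgHom A B B') (M i j) (b i)
  rw [LinearMap.toMatrix_apply, LinearMap.mulLeft_apply, show bas j = v j from Module.Basis.mk_apply _ _ j,
    hT, bas.repr_sum_self, RingHom.mapMatrix_apply, Matrix.map_apply, ← hM]
  rfl

end Fibre

theorem tameSymbol_flat {A A' : Type u} [CommRing A] [CommRing A'] [IsNoetherianRing A] [IsNoetherianRing A']
    [IsLocalRing A] [IsLocalRing A'] [Algebra A A'] [IsLocalHom (algebraMap A A')] [Module.Flat A A']
    (hA : ringKrullDim A = 1) (hA' : ringKrullDim A' = 1) (a₁ a₂ : A)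
    (h₁ : a₁ ∈ nonZeroDivisors A) (h₂ : a₂ ∈ nonZeroDivisors A) :
    ResidueField.map (algebraMap A A') (tameSymbol A a₁ a₂) ^
        (Module.length A' (A' ⧸ Ideal.map (algebraMap A A') (maximalIdeal A))).toNat =
      tameSymbol A' (algebraMap A A' a₁) (algebraMap A A' a₂) := by
  classical
  by_cases hu : IsUnit a₁ ∧ IsUnit a₂
  · have h1 : ∀ {R : Type u} [CommRing R] [IsLocalRing R] [IsNoetherianRing R] (x y : R), IsUnit x → IsUnit y →
        tameSymbol R x y = 1 := fun x y hx hy => by
      rw [tameSymbol]
      split_ifs with h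
      · exact value_of_isUnit _ hx hy
      · rfl
    rw [h1 _ _ hu.1 hu.2, h1 _ _ (hu.1.map _) (hu.2.map _)]
    simp
  obtain ⟨x₀, hx₀, hx₀m⟩ : ∃ x ∈ nonZeroDivisors A, x ∈ maximalIdeal A := by
    rcases not_and_or.mp hu with h | h
    · exact ⟨a₁, h₁, h⟩
    · exact ⟨a₂, h₂, h⟩
  have hflat : ∀ {x : A}, x ∈ nonZeroDivisors A → algebraMap A A' x ∈ nonZeroDivisors A' := by
    intro x hx
    have hreg : IsSMulRegular A x := fun a b h => sub_eq_zero.mp (mem_nonZeroDivisors_iff_left.mp hx _ (by simp only [smul_eq_mul] at h; rw [mul_sub, h, sub_self]))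
    have := IsSMulRegular.of_flat_of_isBaseChange (IsBaseChange.linearMap A A') hreg
    rw [mem_nonZeroDivisors_iff_right]
    intro y hy
    refine this ?_
    show algebraMap A A' x • y = algebraMap A A' x • (0 : A')
    rw [smul_eq_mul, mul_comm, hy, smul_zero]
  set m₀ := (maximalIdeal A).map (algebraMap A A')
  obtain ⟨N, hN⟩ : ∃ N, maximalIdeal A' ^ N ≤ m₀ := by
    haveI := artinian_quot hA'.le (hflat hx₀)
    obtain ⟨N, hN⟩ := IsLocalRing.exists_maximalIdeal_pow_le_of_isArtinianRing_quotient
      (Ideal.span {algebraMap A A' x₀})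
    exact ⟨N, hN.trans ((Ideal.span_singleton_le_iff_mem _).mpr (Ideal.mem_map_of_mem _ hx₀m))⟩
  have hfin : Module.length A' (A' ⧸ m₀) ≠ ⊤ := by
    refine ne_top_of_le_ne_top (Groth.L15.CommonFactor.length_quot_ne_top hA'.le (hflat hx₀)) ?_
    exact Module.length_le_of_surjective (Submodule.factor ((Ideal.span_singleton_le_iff_mem _).mpr
      (Ideal.mem_map_of_mem _ hx₀m))) (Submodule.factor_surjective _)
  have ha : ∀ i : Fin 2, ![a₁, a₂] i ∈ nonZeroDivisors A := fun i => by fin_cases i <;> assumption
  obtain ⟨F⟩ := exists_fam hA ![a₁, a₂] ha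
  obtain ⟨hinjB, hfinB, n, hn⟩ := F.isFinExt
  let B := F.B
  let B' := A' ⊗[A] B
  letI : Algebra B B' := Algebra.TensorProduct.rightAlgebra
  haveI : Algebra.IsPushout A A' B B' := ⟨TensorProduct.isBaseChange A B A'⟩
  haveI : Algebra.IsPushout A B A' B' := Algebra.IsPushout.symm inferInstance
  haveI : Module.Flat B B' := Module.Flat.isBaseChange A B A' B' (Algebra.IsPushout.out (R := A) (S := B) (R' := A') (S' := B'))
  haveI : IsNoetherianRing B := IsNoetherianRing.of_finite A B
  haveI : IsNoetherianRing B' := IsNoetherianRing.of_finite A' B'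
  have hinj' : Function.Injective (algebraMap A' B') := by
    have h := Module.Flat.lTensor_preserves_injective_linearMap (M := A') (Algebra.linearMap A B) hinjB
    intro x y hxy
    have h2 : ∀ z : A', (Algebra.linearMap A B).lTensor A' (z ⊗ₜ 1) = algebraMap A' B' z := fun z => by
      simp [B', Algebra.TensorProduct.algebraMap_apply]
    rw [← h2, ← h2] at hxy
    simpa using congrArg (TensorProduct.rid A A') (h hxy)
  have hkill : ∀ r ∈ maximalIdeal A' ^ (N * n), ∀ z : B', r • z ∈ (algebraMap A' B').range := by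
    intro r hr
    have hr' : r ∈ (maximalIdeal A ^ n).map (algebraMap A A') := by
      rw [Ideal.map_pow]
      rw [pow_mul] at hr
      exact Ideal.pow_right_mono hN n hr
    clear hr
    induction hr' using Submodule.span_induction with
    | mem r hr =>
      obtain ⟨r, hr, rfl⟩ := hr
      intro z
      induction z using TensorProduct.induction_on with
      | zero => rw [smul_zero]; exact zero_mem _
      | add x y hx hy => rw [smul_add]; exact add_mem hx hy
      | tmul a b =>
        obtain ⟨c, hc⟩ := hn r hr b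
        refine ⟨a * algebraMap A A' c, ?_⟩
        rw [algebraMap_smul]
        change _ = r • (a ⊗ₜ[A] b)
        rw [← tmul_smul, ← hc, Algebra.algebraMap_eq_smul_one (A := B), tmul_smul, smul_tmul',
          Algebra.TensorProduct.algebraMap_apply, Algebra.algebraMap_self, RingHom.id_apply,
          Algebra.smul_def, mul_comm]
    | zero => intro z; rw [zero_smul]; exact zero_mem _
    | add r s _ _ hr hs => intro z; rw [add_smul]; exact add_mem (hr z) (hs z)
    | smul c r _ hr => intro z; rw [smul_eq_mul, mul_comm, mul_smul]; exact hr _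
  haveI := finite_spectrum (A := A) (B := B)
  haveI := finite_spectrum (A := A') (B := B')
  haveI := Fintype.ofFinite (MaximalSpectrum B)
  haveI := Fintype.ofFinite (MaximalSpectrum B')
  have hdimB := dim_le_one A hA hinjB
  have hdimB' := dim_le_one A' hA' hinj'
  -- the maximal ideal below
  have hcomap : ∀ Q : MaximalSpectrum B', (Q.asIdeal.comap (algebraMap B B')).IsMaximal := by
    intro Q
    haveI := Q.isMaximal
    refine Ideal.isMaximal_of_isIntegral_of_isMaximal_comap (R := A) _ ?_
    have : (Q.asIdeal.comap (algebraMap B B')).comap (algebraMap A B) =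
        (Q.asIdeal.comap (algebraMap A' B')).comap (algebraMap A A') := by
      rw [Ideal.comap_comap, Ideal.comap_comap, ← IsScalarTower.algebraMap_eq, ← IsScalarTower.algebraMap_eq]
    rw [this, comap_eq (A := A') Q, show (maximalIdeal A').comap (algebraMap A A') = maximalIdeal A from
      ((IsLocalRing.local_hom_TFAE (algebraMap A A')).out 0 4 rfl rfl).mp ‹_›]
    exact maximalIdeal.isMaximal A
  let res : MaximalSpectrum B' → MaximalSpectrum B := fun Q => ⟨_, hcomap Q⟩
  let ψ : ∀ Q, (Loc res Q) →+* Loc Q := fun Q =>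
    Localization.localRingHom (res Q).asIdeal Q.asIdeal (algebraMap B B') rfl
  have hψ : ∀ Q z, ψ Q (algebraMap B (Loc res Q) z) = algebraMap B' (Loc Q) (algebraMap B B' z) := fun Q z =>
    Localization.localRingHom_to_map _ _ _ _ _
  -- global representatives of the parameters
  choose x hxnzd hxne hxu using fun q => exists_global hdimB q (F.π_mem q)
  have hxnzd' : ∀ q, algebraMap B B' (x q) ∈ nonZeroDivisors B' := by
    intro q
    have hreg : IsSMulRegular B (x q) := fun a b h => sub_eq_zero.mp (mem_nonZeroDivisors_iff_left.mp (hxnzd q) _ (by simp only [smul_eq_mul] at h; rw [mul_sub, h, sub_self]))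
    have := IsSMulRegular.of_flat_of_isBaseChange (IsBaseChange.linearMap B B') hreg
    rw [mem_nonZeroDivisors_iff_right]
    intro y hy
    refine this ?_
    show algebraMap B B' (x q) • y = algebraMap B B' (x q) • (0 : B')
    rw [smul_eq_mul, mul_comm, hy, smul_zero]
  let F' : Fam A' ![algebraMap A A' a₁, algebraMap A A' a₂] :=
    { B := B'
      isFinExt := ⟨hinj', inferInstance, N * n, hkill⟩
      π := fun Q => ψ Q (F.π (res Q))
      π_mem := fun Q => by
        obtain ⟨u, hu⟩ := hxu (res Q)
        rw [← Units.inv_mul_cancel_left u (F.π (res Q)), ← hu, map_mul, hψ]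
        exact mul_mem ((u⁻¹).isUnit.map (ψ Q)).mem_nonZeroDivisors (map_nzd Q (hxnzd' _))
      u := fun i Q => Units.map (ψ Q).toMonoidHom (F.u i (res Q))
      e := fun i Q => F.e i (res Q)
      fac := fun i Q => by
        have h1 : ![algebraMap A A' a₁, algebraMap A A' a₂] i = algebraMap A A' (![a₁, a₂] i) := by
          fin_cases i <;> rfl
        rw [h1, ← IsScalarTower.algebraMap_apply, IsScalarTower.algebraMap_apply A B' (Loc Q),
          IsScalarTower.algebraMap_apply A B B', ← hψ, ← IsScalarTower.algebraMap_apply A B (Loc res Q),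
          F.fac i (res Q), map_mul, map_pow]
        rfl }
  have hF := tameSymbol_fam hA F ha 0 1
  have hF' := tameSymbol_fam hA' F' (fun i => by
    fin_cases i
    · exact hflat h₁
    · exact hflat h₂) 0 1
  rw [show tameSymbol A a₁ a₂ = _ from hF,
    show tameSymbol A' (algebraMap A A' a₁) (algebraMap A A' a₂) = _ from hF',
    finprod_eq_prod_of_fintype, finprod_eq_prod_of_fintype, map_prod, ← Finset.prod_pow]
  -- a representative of the symbol at each maximal ideal of `B`
  let s : ∀ q : MaximalSpectrum B, ResidueField (Loc q) := fun q =>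
    sx (F.u 0 q) (F.u 1 q) (F.e 0 q) (F.e 1 q)
  choose c hc using fun q => residue_surjective' q (s q)
  have hdata := fun q : MaximalSpectrum B =>
    haveI : IsLocalHom (algebraMap A (Loc q)) := (F.toData 0 1).isLocalHom q
    fibre_data (A' := A') (B' := B') q hfin (c q)
  let o : MaximalSpectrum B → ℕ := fun q => (Ring.ord (Loc q) (F.π q)).toNat
  let nn : MaximalSpectrum B → MaximalSpectrum B' → ℕ := fun q Q => (lloc Q (B' ⧸ fibI A' q)).toNat
  set ℓ := (Module.length A' (A' ⧸ m₀)).toNat
  have hlf : ∀ Q : MaximalSpectrum B', (F'.toData 0 1).localFactor Q =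
      ∏ q, nQ A' (algebraMap B B' (c q)) Q ^ (o q * ℓ * nn q Q) := by
    intro Q
    haveI : IsLocalHom (algebraMap A' (Loc Q)) := (F'.toData 0 1).isLocalHom Q
    rw [Finset.prod_eq_single (res Q) (fun q _ hq => ?_) (by simp)]
    · have hord : (Ring.ord (Loc Q) (ψ Q (F.π (res Q)))).toNat = o (res Q) * ℓ * nn (res Q) Q := by
        obtain ⟨u, hu⟩ := hxu (res Q)
        have h1 : Ring.ord (Loc Q) (ψ Q (F.π (res Q))) = Ring.ord (Loc Q) (algebraMap B' (Loc Q) (algebraMap B B' (x (res Q)))) := by
          rw [← hψ, hu, map_mul, Ring.ord_mul_of_isUnit_left (u.isUnit.map (ψ Q))]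
        rw [h1, ord_map Q (res Q) (Module.length_ne_top_iff.mp (length_quot_ne_top hdimB (hxnzd _)))
            (fun q₀ hq₀ => hxne (res Q) q₀ hq₀), hu,
          Ring.ord_mul_of_isUnit_left u.isUnit, ((hdata (res Q)).1 Q).1, ENat.toNat_mul, ENat.toNat_mul,
          mul_assoc]
      rw [Groth.L15.Tame.localFactor_eq]
      show lf A' (ψ Q (F.π (res Q))) (Units.map (ψ Q).toMonoidHom (F.u 0 (res Q)))
        (Units.map (ψ Q).toMonoidHom (F.u 1 (res Q))) (F.e 0 (res Q)) (F.e 1 (res Q)) = _
      rw [lf, hord, nQ]
      congr 2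
      haveI : IsLocalHom (ψ Q) := Localization.isLocalHom_localRingHom _ _ _ rfl
      rw [← hψ, ← ResidueField.map_residue (ψ Q)]
      refine Eq.trans ?_ (congrArg (ResidueField.map (ψ Q)) (hc (res Q))).symm
      simp only [s, sx, map_mul, map_pow, map_inv₀, map_neg, map_one]
      rfl
    · obtain ⟨z, hzq, hzQ⟩ := SetLike.not_le_iff_exists.mp (show ¬ q.asIdeal ≤ (res Q).asIdeal from fun hle =>
        hq (MaximalSpectrum.ext (q.isMaximal.eq_of_le (res Q).isMaximal.ne_top hle)))
      rw [show nn q Q = 0 by simp [nn, lloc_fibI_ne q Q hzq hzQ]]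
      simp
  rw [Finset.prod_congr rfl fun Q _ => hlf Q, Finset.prod_comm]
  refine Finset.prod_congr rfl fun q _ => ?_
  haveI : IsLocalHom (algebraMap A (Loc q)) := (F.toData 0 1).isLocalHom q
  rw [show ∏ Q, nQ A' (algebraMap B B' (c q)) Q ^ (o q * ℓ * nn q Q) =
      (∏ Q, nQ A' (algebraMap B B' (c q)) Q ^ nn q Q) ^ (o q * ℓ) by
    rw [← Finset.prod_pow]
    exact Finset.prod_congr rfl fun Q _ => by rw [← pow_mul, mul_comm], (hdata q).2,
    Groth.L15.Tame.localFactor_eq, lf, map_pow, ← pow_mul]
  rw [show residue (Loc q) (algebraMap B (Loc q) (c q)) = s q from hc q]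
  rfl

end Groth.L15.TameFlat
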